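import Mathlib
import Cfsg.Agent.Lib.FormMax.UnitaryInSL
import Cfsg.Agent.Lib.FormMax.OrthFour
import Cfsg.Agent.Lib.Forms.CharTwoPoints

/-!
# Classical-group members of the geometric list of `SL₄`
-/

set_option autoImplicit false

namespace Cfsg.Agent.Lib.GeoTypesSL4

variable {F : Type*} [Field F] [Fintype F]

/-- Unitary similitudes are maximal in `SL₄`. -/
theorem similarity_unitary (σ : F ≃+* F) (f : (Fin 4 → F) → (Fin 4 → F) → F)
    (hf : Cfsg.Geo.IsUnitaryForm σ f) :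
    Cfsg.Geo.IsMaximalIn (Cfsg.Geo.specialLinear (Fin 4) F)
      (Cfsg.Geo.similarityGroup f ⊓ Cfsg.Geo.specialLinear (Fin 4) F) :=
  Cfsg.Agent.Lib.FormMax.UnitarySL.isMaximalIn_similarity hf (by rw [Fintype.card_fin])
    (by rw [Fintype.card_fin]; omega)

/-- Quadratic similitudes are maximal in `SL₄`, odd characteristic. -/
theorem quad_similarity (hodd : Odd (Fintype.card F)) (Q : (Fin 4 → F) → F)
    (hQ : Cfsg.Geo.IsNondegenerateQuadraticForm Q) :
    Cfsg.Geo.IsMaximalIn (Cfsg.Geo.specialLinear (Fin 4) F)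
      (Cfsg.Geo.quadSimilarityGroup Q ⊓ Cfsg.Geo.specialLinear (Fin 4) F) := by
  have h2 : (2 : F) ≠ 0 := Ring.two_ne_zero fun h => by
    have h' := FiniteField.even_card_of_char_two h
    obtain ⟨k, hk⟩ := hodd; omega
  exact Cfsg.Agent.Lib.FormMax.OrthSL.isMaximalIn_quadSimilarity_four
    (Q := Cfsg.Agent.Lib.Forms.bundleQuad Q hQ)
    (Cfsg.Agent.Lib.Forms.nondegenerate_bundleQuad Q hQ) h2 (by simp)

end Cfsg.Agent.Lib.GeoTypesSL4
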