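import Cfsg.Agent.Lib.LinearFrame.Main

/-!
The stabilisers of decompositions of a four-dimensional space are maximal in the special linear group.
-/

set_option autoImplicit false

namespace Cfsg.Agent.Lib.GeoTypesSL4

variable {F : Type*} [Field F] [Fintype F]

/-- Four lines, at least seven field elements. -/
theorem decomposition_lines (hq : 7 ≤ Fintype.card F) (D : Fin 4 → Submodule F (Fin 4 → F))
    (hD : Cfsg.Geo.IsMDecomposition 1 D) :
    Cfsg.Geo.IsMaximalIn (Cfsg.Geo.specialLinear (Fin 4) F)
      (Cfsg.Geo.decompositionStabilizer D ⊓ Cfsg.Geo.specialLinear (Fin 4) F) :=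
  LinearFrame.isMaximalIn_decomposition_of le_rfl hD
    (fun _ _ hH hM _ hg hgn => LinearFrame.eq_slGL_of_not_mono_four hq hH hM hg hgn)
    (by omega) (by omega)

/-- Two planes, at least four field elements. -/
theorem decomposition_planes (hq : 4 ≤ Fintype.card F) (D : Fin 2 → Submodule F (Fin 4 → F))
    (hD : Cfsg.Geo.IsMDecomposition 2 D) :
    Cfsg.Geo.IsMaximalIn (Cfsg.Geo.specialLinear (Fin 4) F)
      (Cfsg.Geo.decompositionStabilizer D ⊓ Cfsg.Geo.specialLinear (Fin 4) F) :=
  LinearFrame.isMaximalIn_decomposition_of le_rfl hD (fun h => absurd h (by omega)) (by omega) (fun _ _ => hq)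

end Cfsg.Agent.Lib.GeoTypesSL4
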