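import Cfsg.Agent.Lib.GeoTypesSL4.QuadRoots

/-!
# Similitudes of a quadratic form in dimension at least four are maximal in `SL`
-/

set_option autoImplicit false
set_option linter.unusedSectionVars false

namespace Cfsg.Agent.Lib.GeoTypesSL4.Quad

open Matrix QuadraticMap
open Cfsg.Agent.Lib
open Cfsg.Agent.Lib.FormMax
open Cfsg.Agent.Lib.FormMax.OrthSL

variable {ι : Type} [Fintype ι] [DecidableEq ι] {F : Type*} [Field F] [Finite F]
  {Q : QuadraticForm F (ι → F)} {H : Subgroup (GL ι F)}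
  (hQ : (QuadraticMap.polarBilin Q).Nondegenerate) (h2 : (2 : F) ≠ 0)
  (hn : 4 ≤ Fintype.card ι) (hM : Cfsg.Geo.quadSimilarityGroup ⇑Q ⊓ Cfsg.Geo.specialLinear ι F ≤ H)
include hQ h2 hn hM

omit hn in
theorem exists_fixed_of_singular_image {g : GL ι F} (hgH : g ∈ H)
    (hg : g ∉ Cfsg.Geo.quadSimilarityGroup ⇑Q) {u : ι → F} (hu0 : u ≠ 0) (hu : Q u = 0)
    (hn' : 4 ≤ Fintype.card ι) (hp : Q (((g⁻¹ : GL ι F) : Matrix ι ι F) *ᵥ u) = 0) :
    ∃ g' ∈ H, g' ∉ Cfsg.Geo.quadSimilarityGroup ⇑Q ∧ (g' : Matrix ι ι F) *ᵥ u = u := by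
  have hp0 : ((g⁻¹ : GL ι F) : Matrix ι ι F) *ᵥ u ≠ 0 := fun e => hu0 (by
    rw [← mulVec_inv g u, e, mulVec_zero])
  obtain ⟨m, hmM, -, hm⟩ := exists_isometry_map hQ h2 hn' hu0 hu hp0 hp
  refine ⟨g * m, H.mul_mem hgH (hM hmM), fun h => hg ?_, by rw [gl_mulVec, hm, mulVec_inv]⟩
  have := mul_mem h (inv_mem hmM.1)
  rwa [mul_inv_cancel_right] at this

theorem exists_fixing {g : GL ι F} (hgH : g ∈ H) (hg : g ∉ Cfsg.Geo.quadSimilarityGroup ⇑Q) :
    ∃ g' u, g' ∈ H ∧ g' ∉ Cfsg.Geo.quadSimilarityGroup ⇑Q ∧ u ≠ 0 ∧ Q u = 0 ∧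
      (g' : Matrix ι ι F) *ᵥ u = u := by
  obtain ⟨u, hu0, hu⟩ := Orth.exists_singular h2 hQ (by omega)
  set p := ((g⁻¹ : GL ι F) : Matrix ι ι F) *ᵥ u with hpdef
  by_cases hp : Q p = 0
  · obtain ⟨g', h1, h3, h5⟩ := exists_fixed_of_singular_image hQ h2 hM hgH hg hu0 hu hn hp
    exact ⟨g', u, h1, h3, hu0, hu, h5⟩
  by_contra hcon
  push Not at hcon
  -- then every Eichler element fixing `p` preserves the transported form
  obtain ⟨e, he0, he, hec⟩ := exists_singular_conds (Q := Q) h2 ![p] (by omega)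
  have hpe : polar ⇑Q p e = 0 := hec 0
  obtain ⟨f, hfQ, hef⟩ := Orth.exists_partner hQ he0 he
  have hpp : polar ⇑Q p p = 2 * Q p := Orth.polar_self_eq p
  have hpp0 : polar ⇑Q p p ≠ 0 := by rw [hpp]; exact mul_ne_zero h2 hp
  set f₁ := f - (polar ⇑Q p f / polar ⇑Q p p) • p with hf₁
  have hpf₁ : polar ⇑Q p f₁ = 0 := by
    rw [hf₁, polar_sub_right, polar_smul_right, smul_eq_mul, div_mul_cancel₀ _ hpp0, sub_self]
  have hef₁ : polar ⇑Q e f₁ = 1 := by
    rw [hf₁, polar_sub_right, polar_smul_right, polar_comm _ e p, hpe, smul_zero, sub_zero, hef]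
  obtain ⟨e', he'def⟩ : ∃ e', e' = f₁ + (-Q f₁) • e := ⟨_, rfl⟩
  have hpe' : polar ⇑Q p e' = 0 := by
    rw [he'def, polar_add_right, polar_smul_right, hpf₁, hpe, smul_zero, add_zero]
  have hee' : polar ⇑Q e e' = 1 := by
    rw [he'def, polar_add_right, polar_smul_right, hef₁, Orth.polar_self_zero he, smul_zero, add_zero]
  have he' : Q e' = 0 := by
    rw [he'def, QuadraticMap.map_add (⇑Q), QuadraticMap.map_smul, polar_smul_right, he,
      polar_comm _ f₁ e, hef₁]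
    simp
  set φ : (ι → F) → F := fun x => polar ⇑Q ((g : Matrix ι ι F) *ᵥ p) ((g : Matrix ι ι F) *ᵥ x) with hφ
  have hgp : (g : Matrix ι ι F) *ᵥ p = u := mulVec_inv g u
  have hφadd : ∀ x y, φ (x + y) = φ x + φ y := fun x y => by
    simp [hφ, mulVec_add, polar_add_right]
  have hφsub : ∀ x y, φ (x - y) = φ x - φ y := fun x y => by
    simp [hφ, mulVec_sub, polar_sub_right]
  have hφsmul : ∀ (c : F) x, φ (c • x) = c * φ x := fun c x => by
    simp [hφ, mulVec_smul, polar_smul_right]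
  -- each such element scales `φ`
  have hinv : ∀ c a, ∀ (hc : Q c = 0) (ha : polar ⇑Q c a = 0), polar ⇑Q c p = 0 →
      polar ⇑Q a p = 0 → ∃ μ : F, ∀ x,
      φ ((eichlerGL Q c a hc ha : Matrix ι ι F) *ᵥ x) = μ * φ x := by
    intro c a hc ha hcp hap
    set E := eichlerGL Q c a hc ha with hE
    have hEp : (E : Matrix ι ι F) *ᵥ p = p := by
      rw [hE, eichlerGL_mulVec, hcp, hap]; simp
    have hfix : ((g * E * g⁻¹ : GL ι F) : Matrix ι ι F) *ᵥ u = u := by
      rw [gl_mulVec, gl_mulVec, ← hpdef, hEp, hgp]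
    by_cases hin : g * E * g⁻¹ ∈ Cfsg.Geo.quadSimilarityGroup ⇑Q
    swap
    · exact absurd hfix (hcon _ _ (H.mul_mem (H.mul_mem hgH (hM (eichlerGL_mem hc ha)))
        (H.inv_mem hgH)) hin hu0 hu)
    obtain ⟨μ, hμ⟩ := hin
    refine ⟨μ, fun x => ?_⟩
    have hk : ((g * E * g⁻¹ : GL ι F) : Matrix ι ι F) *ᵥ ((g : Matrix ι ι F) *ᵥ x) =
        (g : Matrix ι ι F) *ᵥ ((E : Matrix ι ι F) *ᵥ x) := by
      rw [gl_mulVec, gl_mulVec, inv_mulVec]
    simp only [hφ, hgp]
    conv_lhs => rw [← hfix, ← hk]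
    rw [QuadraticMap.polar, QuadraticMap.polar, ← mulVec_add, hμ, hμ, hμ]
    ring
  have hkill : ∀ a, polar ⇑Q p a = 0 → polar ⇑Q e a = 0 → polar ⇑Q e' a = 0 → Q a ≠ 0 →
      φ e = 0 ∧ φ e' = 0 ∧ φ a = 0 := by
    intro a hpa hea he'a haQ
    obtain ⟨μ, hμ⟩ := hinv e a he hea (by rw [polar_comm]; exact hpe) (by rw [polar_comm]; exact hpa)
    obtain ⟨ν, hν⟩ := hinv e' a he' he'a (by rw [polar_comm]; exact hpe') (by rw [polar_comm]; exact hpa)
    have A : ∀ x, φ x + polar ⇑Q e x * φ a - (polar ⇑Q a x + Q a * polar ⇑Q e x) * φ e = μ * φ x := by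
      intro x
      rw [← hμ, eichlerGL_mulVec, hφsub, hφadd, hφsmul, hφsmul]
    have B : ∀ x, φ x + polar ⇑Q e' x * φ a - (polar ⇑Q a x + Q a * polar ⇑Q e' x) * φ e' = ν * φ x := by
      intro x
      rw [← hν, eichlerGL_mulVec, hφsub, hφadd, hφsmul, hφsmul]
    have A1 := A e
    have A2 := A a
    have A3 := A e'
    have B1 := B e'
    have B2 := B a
    rw [Orth.polar_self_zero he, polar_comm _ a e, hea] at A1
    rw [hea, Orth.polar_self_eq] at A2
    rw [hee', polar_comm _ a e', he'a] at A3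
    rw [Orth.polar_self_zero he', polar_comm _ a e', he'a] at B1
    rw [he'a, Orth.polar_self_eq] at B2
    have h2a : 2 * Q a ≠ 0 := mul_ne_zero h2 haQ
    have z1 : φ e = 0 := by
      by_contra hne
      have hμ1 : μ = 1 := mul_right_cancel₀ hne (by linear_combination -A1)
      subst hμ1
      exact hne ((mul_eq_zero.mp (show 2 * Q a * φ e = 0 by linear_combination -A2)).resolve_left h2a)
    have z2 : φ e' = 0 := by
      by_contra hne
      have hν1 : ν = 1 := mul_right_cancel₀ hne (by linear_combination -B1)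
      subst hν1
      exact hne ((mul_eq_zero.mp (show 2 * Q a * φ e' = 0 by linear_combination -B2)).resolve_left h2a)
    refine ⟨z1, z2, ?_⟩
    linear_combination A3 + Q a * z1 + (μ - 1) * z2
  set π : (ι → F) → (ι → F) := fun t => proj Q e e' (t - (polar ⇑Q p t / polar ⇑Q p p) • p) with hπ
  have hπp : ∀ t, polar ⇑Q p (π t) = 0 := fun t => by
    simp only [hπ, proj, polar_sub_right, polar_smul_right, hpe, hpe', smul_eq_mul, mul_zero, sub_zero]
    rw [div_mul_cancel₀ _ hpp0, sub_self]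
  have hπe : ∀ t, polar ⇑Q e (π t) = 0 := fun t => proj_left he hee' _
  have hπe' : ∀ t, polar ⇑Q e' (π t) = 0 := fun t => proj_right he' hee' _
  obtain ⟨a, hpa, hea, he'a, haQ⟩ : ∃ a, polar ⇑Q p a = 0 ∧ polar ⇑Q e a = 0 ∧
      polar ⇑Q e' a = 0 ∧ Q a ≠ 0 := by
    obtain ⟨y, hy0, hy⟩ := exists_perp_ne (Q := Q) ![p, e, e'] (by omega)
    have hpy : polar ⇑Q p y = 0 := hy 0
    have hey : polar ⇑Q e y = 0 := hy 1
    have he'y : polar ⇑Q e' y = 0 := hy 2
    obtain ⟨t, ht⟩ := exists_dual_one hQ hy0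
    have hyt : polar ⇑Q y (π t) = 1 := by
      simp only [hπ, proj, polar_sub_right, polar_smul_right, polar_comm (⇑Q) y e, hey,
        polar_comm (⇑Q) y e', he'y, polar_comm (⇑Q) y p, hpy, ht, smul_eq_mul, mul_zero, sub_zero]
    by_contra hall
    push Not at hall
    have h1 := hall (y + π t) (by rw [polar_add_right, hpy, hπp, add_zero])
      (by rw [polar_add_right, hey, hπe, add_zero]) (by rw [polar_add_right, he'y, hπe', add_zero])
    rw [QuadraticMap.map_add (⇑Q), hall y hpy hey he'y, hall _ (hπp t) (hπe t) (hπe' t), hyt] at h1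
    simp at h1
  obtain ⟨z1, z2, za⟩ := hkill a hpa hea he'a haQ
  have hπ0 : ∀ t, φ (π t) = 0 := by
    intro t
    by_cases h : Q (π t) = 0
    swap
    · exact (hkill _ (hπp t) (hπe t) (hπe' t) h).2.2
    by_cases h' : Q (π t + a) = 0
    · have h3 : Q (π t - a) ≠ 0 := by
        intro h3
        rw [sub_eq_add_neg, QuadraticMap.map_add (⇑Q), QuadraticMap.map_neg, polar_neg_right, h] at h3
        rw [QuadraticMap.map_add (⇑Q), h] at h'
        exact mul_ne_zero h2 haQ (by linear_combination h' + h3)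
      have := (hkill _ (by rw [polar_sub_right, hπp, hpa, sub_zero])
        (by rw [polar_sub_right, hπe, hea, sub_zero])
        (by rw [polar_sub_right, hπe', he'a, sub_zero]) h3).2.2
      rw [hφsub, za, sub_zero] at this
      exact this
    · have := (hkill _ (by rw [polar_add_right, hπp, hpa, add_zero])
        (by rw [polar_add_right, hπe, hea, add_zero])
        (by rw [polar_add_right, hπe', he'a, add_zero]) h').2.2
      rw [hφadd, za, add_zero] at this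
      exact this
  have hφp : φ p = 0 := by simp only [hφ, hgp]; exact Orth.polar_self_zero hu
  obtain ⟨t, ht⟩ := exists_dual_one hQ hu0
  set t' := ((g⁻¹ : GL ι F) : Matrix ι ι F) *ᵥ t with ht'
  have h1 : φ t' = 1 := by simp only [hφ, hgp, ht', mulVec_inv]; exact ht
  have h3 := hπ0 t'
  simp only [hπ, proj, hφsub, hφsmul, hφp, z1, z2, mul_zero, sub_zero] at h3
  exact one_ne_zero (h1.symm.trans h3)

/-- The commutator of two Eichler elements with a common centre. -/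
theorem root_commutator4 {g : GL ι F} (hgH : g ∈ H) {u y z w' : ι → F} (hu : Q u = 0)
    (hp : Q (((g⁻¹ : GL ι F) : Matrix ι ι F) *ᵥ u) = 0)
    (hw' : ∀ x, polar ⇑Q w' x = polar ⇑Q (((g⁻¹ : GL ι F) : Matrix ι ι F) *ᵥ u)
      (((g⁻¹ : GL ι F) : Matrix ι ι F) *ᵥ x))
    (hy : polar ⇑Q u y = 0) (hy' : polar ⇑Q w' y = 0) (hz : polar ⇑Q u z = 0)
    (hz' : polar ⇑Q w' z = 0) :
    Root Q H u (polar ⇑Q (((g⁻¹ : GL ι F) : Matrix ι ι F) *ᵥ z)
      (((g⁻¹ : GL ι F) : Matrix ι ι F) *ᵥ y) • u - polar ⇑Q y z • w') := by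
  set gi := ((g⁻¹ : GL ι F) : Matrix ι ι F) with hgi
  set p := gi *ᵥ u with hpdef
  have huu := Orth.polar_self_zero hu
  have hw'u : polar ⇑Q w' u = 0 := by rw [hw']; exact Orth.polar_self_zero hp
  set r := polar ⇑Q (gi *ᵥ z) (gi *ᵥ y) • u - polar ⇑Q y z • w' with hr
  have hru : polar ⇑Q r u = 0 := by
    simp [hr, polar_sub_left, polar_smul_left, huu, hw'u]
  refine ⟨hru, fun hd => ?_⟩
  have hgz : polar ⇑Q p (gi *ᵥ z) = 0 := by rw [← hw']; exact hz'
  obtain ⟨E, hE⟩ : ∃ E, E = eichlerGL Q u y hu hy := ⟨_, rfl⟩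
  obtain ⟨E', hE'⟩ : ∃ E', E' = g * eichlerGL Q p (gi *ᵥ z) hp hgz * g⁻¹ := ⟨_, rfl⟩
  have hEH : E ∈ H := hE ▸ hM (eichlerGL_mem hu hy)
  have hE'H : E' ∈ H :=
    hE' ▸ H.mul_mem (H.mul_mem hgH (hM (eichlerGL_mem hp hgz))) (H.inv_mem hgH)
  have hE'x : ∀ x, (E' : Matrix ι ι F) *ᵥ x = x + polar ⇑Q w' x • z -
      (polar ⇑Q (gi *ᵥ z) (gi *ᵥ x) + Q (gi *ᵥ z) * polar ⇑Q w' x) • u := by
    intro x
    rw [hE', gl_mulVec, gl_mulVec, ← hgi, eichlerGL_mulVec,
      mulVec_sub, mulVec_add, mulVec_smul, mulVec_smul, hgi, mulVec_inv, mulVec_inv, hpdef, hgi,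
      mulVec_inv, ← hgi, ← hw']
  have key : E * E' = Tr u (dual Q r) hd * (E' * E) := by
    refine gl_ext fun x => ?_
    have hEx : ∀ x, (E : Matrix ι ι F) *ᵥ x =
        x + polar ⇑Q u x • y - (polar ⇑Q y x + Q y * polar ⇑Q u x) • u := fun x => by
      rw [hE]; exact eichlerGL_mulVec hu hy x
    have hgzu : polar ⇑Q (gi *ᵥ z) p = 0 := by rw [polar_comm]; exact hgz
    rw [gl_mulVec, gl_mulVec, gl_mulVec, hEx, hE'x, Tr_mulVec, hE'x, hEx, dual_dot, hr]
    simp only [mulVec_add, mulVec_sub, mulVec_smul, ← hpdef, polar_add_right, polar_sub_right,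
      polar_smul_right, polar_sub_left, polar_smul_left, polar_comm (⇑Q) y u, hy, hy', hz, hz',
      huu, hw'u, hgzu, smul_eq_mul]
    module
  have h1 := H.mul_mem (H.mul_mem hEH hE'H) (H.inv_mem (H.mul_mem hE'H hEH))
  rw [key, mul_inv_cancel_right] at h1
  exact h1

theorem generic_of_fixing {g : GL ι F} (hgH : g ∈ H)
    (hg : g ∉ Cfsg.Geo.quadSimilarityGroup ⇑Q) (hHS : H ≤ Cfsg.Geo.specialLinear ι F)
    {u : ι → F} (hu0 : u ≠ 0) (hu : Q u = 0) (hgu : (g : Matrix ι ι F) *ᵥ u = u) :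
    ∃ v w, v ≠ 0 ∧ Q v = 0 ∧ Root Q H v w ∧ ∀ c : F, w ≠ c • v := by
  set gi := ((g⁻¹ : GL ι F) : Matrix ι ι F) with hgi
  have hgiu : gi *ᵥ u = u := by
    conv_lhs => rw [← hgu]
    exact inv_mulVec g u
  have huu := Orth.polar_self_zero hu
  have line : ∀ {κ : F}, κ ≠ 0 → Root Q H u (κ • u) →
      ∃ v w, v ≠ 0 ∧ Q v = 0 ∧ Root Q H v w ∧ ∀ c : F, w ≠ c • v :=
    fun hκ h => generic_of_line hQ h2 hn hM hκ hu0 hu h
  have hp : Q (gi *ᵥ u) = 0 := by rw [hgiu]; exact hu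
  obtain ⟨w', hw''⟩ := (dual_bijective hQ).2 (dual Q u ᵥ* gi)
  have hw' : ∀ x, polar ⇑Q w' x = polar ⇑Q u (gi *ᵥ x) := fun x => by
    rw [← dual_dot, hw'', ← dotProduct_mulVec, dual_dot]
  have hwc : ∀ x, polar ⇑Q w' x = polar ⇑Q (gi *ᵥ u) (gi *ᵥ x) := fun x => by rw [hgiu, hw']
  have hcom : ∀ y z, polar ⇑Q u y = 0 → polar ⇑Q w' y = 0 → polar ⇑Q u z = 0 → polar ⇑Q w' z = 0 →
      Root Q H u (polar ⇑Q (gi *ᵥ z) (gi *ᵥ y) • u - polar ⇑Q y z • w') :=
    fun y z a1 a2 a3 a4 => root_commutator4 hQ h2 hn hM hgH hu hp hwc a1 a2 a3 a4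
  have huw' : polar ⇑Q w' u = 0 := by rw [hw', hgiu, huu]
  by_cases hne : ∀ c : F, w' ≠ c • u
  · -- `g` moves the hyperplane orthogonal to `u`
    by_cases hB : ∀ y z, polar ⇑Q u y = 0 → polar ⇑Q w' y = 0 → polar ⇑Q u z = 0 →
        polar ⇑Q w' z = 0 → polar ⇑Q y z = 0
    swap
    · push Not at hB
      obtain ⟨y, z, a1, a2, a3, a4, hyz⟩ := hB
      refine ⟨u, _, hu0, hu, hcom y z a1 a2 a3 a4, fun c e => ?_⟩
      refine hne ((polar ⇑Q (gi *ᵥ z) (gi *ᵥ y) - c) / polar ⇑Q y z) ?_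
      rw [div_eq_inv_mul, mul_smul, eq_inv_smul_iff₀ hyz, sub_smul, ← e]
      abel
    by_cases hC : ∀ y z, polar ⇑Q u y = 0 → polar ⇑Q w' y = 0 → polar ⇑Q u z = 0 →
        polar ⇑Q w' z = 0 → polar ⇑Q (gi *ᵥ z) (gi *ᵥ y) = 0
    swap
    · push Not at hC
      obtain ⟨y, z, a1, a2, a3, a4, hyz⟩ := hC
      have h := hcom y z a1 a2 a3 a4
      rw [hB y z a1 a2 a3 a4, zero_smul, sub_zero] at h
      exact line hyz h
    -- a totally singular line
    obtain ⟨u', -, huu'⟩ := Orth.exists_partner hQ hu0 hu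
    obtain ⟨s, hs0, hs⟩ := exists_perp_ne (Q := Q) ![u, w', u'] (by omega)
    have hus : polar ⇑Q u s = 0 := hs 0
    have hws : polar ⇑Q w' s = 0 := hs 1
    have hu's : polar ⇑Q u' s = 0 := hs 2
    obtain ⟨tw, htw, htw'⟩ := exists_sep hQ hu0 hne
    have hw'0 : w' ≠ 0 := fun e => hne 0 (by rw [e, zero_smul])
    have hne' : ∀ c : F, u ≠ c • w' := by
      intro c e
      by_cases hc : c = 0
      · rw [hc, zero_smul] at e; exact hu0 e
      · exact hne c⁻¹ (by rw [e, smul_smul, inv_mul_cancel₀ hc, one_smul])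
    obtain ⟨tu, htu', htu⟩ := exists_sep hQ hw'0 hne'
    let r : (ι → F) → (ι → F) := fun x => x - polar ⇑Q u x • tu - polar ⇑Q w' x • tw
    have hr1 : ∀ x, polar ⇑Q u (r x) = 0 := fun x => by
      simp [r, polar_sub_right, polar_smul_right, htu, htw]
    have hr2 : ∀ x, polar ⇑Q w' (r x) = 0 := fun x => by
      simp [r, polar_sub_right, polar_smul_right, htu', htw']
    have hspan : s = polar ⇑Q s tu • u + polar ⇑Q s tw • w' := by
      refine sub_eq_zero.mp (eq_zero_of_forall hQ fun x => ?_)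
      have h := hB s (r x) hus hws (hr1 x) (hr2 x)
      simp only [r, polar_sub_right, polar_smul_right, smul_eq_mul] at h
      rw [polar_sub_left, polar_add_left, polar_smul_left, polar_smul_left, smul_eq_mul, smul_eq_mul]
      linear_combination h
    have hb : polar ⇑Q s tw ≠ 0 := by
      intro e
      rw [e, zero_smul, add_zero] at hspan
      have h := hu's
      rw [hspan, polar_smul_right, polar_comm _ u' u, huu', smul_eq_mul, mul_one] at h
      exact hs0 (by rw [hspan, h, zero_smul])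
    have hww : polar ⇑Q w' w' = 0 := by
      have h := hws
      rw [hspan, polar_add_right, polar_smul_right, polar_smul_right, huw', smul_zero, zero_add,
        smul_eq_mul] at h
      exact (mul_eq_zero.mp h).resolve_left hb
    have huw : polar ⇑Q u w' = 0 := by rw [polar_comm]; exact huw'
    have haQ : Q (gi *ᵥ w') = 0 := by
      have h := hC w' w' huw hww huw hww
      rw [Orth.polar_self_eq] at h
      exact (mul_eq_zero.mp h).resolve_left h2
    have hua : polar ⇑Q u (gi *ᵥ w') = 0 := by rw [← hw', hww]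
    obtain ⟨α, hα⟩ : ∃ α, α = polar ⇑Q (gi *ᵥ w') (gi *ᵥ tu) := ⟨_, rfl⟩
    obtain ⟨β, hβ⟩ : ∃ β, β = polar ⇑Q (gi *ᵥ w') (gi *ᵥ tw) := ⟨_, rfl⟩
    have hval : ∀ x, polar ⇑Q (gi *ᵥ w') (gi *ᵥ x) = α * polar ⇑Q u x + β * polar ⇑Q w' x := by
      intro x
      have h := hC (r x) w' (hr1 x) (hr2 x) huw hww
      simp only [r, mulVec_sub, mulVec_smul, polar_sub_right, polar_smul_right, smul_eq_mul] at h
      rw [hα, hβ]
      linear_combination h
    obtain ⟨E, hE⟩ : ∃ E, E = g * eichlerGL Q u (gi *ᵥ w') hu hua * g⁻¹ := ⟨_, rfl⟩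
    have hEH : E ∈ H :=
      hE ▸ H.mul_mem (H.mul_mem hgH (hM (eichlerGL_mem hu hua))) (H.inv_mem hgH)
    have hEx : ∀ x, (E : Matrix ι ι F) *ᵥ x =
        x + polar ⇑Q w' x • w' - (α * polar ⇑Q u x + β * polar ⇑Q w' x) • u := by
      intro x
      rw [hE, gl_mulVec, gl_mulVec, ← hgi, eichlerGL_mulVec, haQ, zero_mul, add_zero, hval, ← hw',
        mulVec_sub, mulVec_add, mulVec_smul, mulVec_smul, hgi, mulVec_inv, mulVec_inv, hgu]
    have hyt : ∀ t : F, polar ⇑Q u (t • tw) = 0 := fun t => by rw [polar_smul_right, htw, smul_zero]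
    let N : F → GL ι F := fun t =>
      eichlerGL Q u (t • tw) hu (hyt t) * E * eichlerGL Q u ((-t) • tw) hu (hyt (-t))
    have hNH : ∀ t, N t ∈ H := fun t =>
      H.mul_mem (H.mul_mem (hM (eichlerGL_mem hu (hyt t))) hEH) (hM (eichlerGL_mem hu (hyt (-t))))
    have hNx : ∀ t x, (N t : Matrix ι ι F) *ᵥ x =
        x + (polar ⇑Q w' x - t * polar ⇑Q u x) • (w' - (β + t) • u) - (α * polar ⇑Q u x) • u := by
      intro t x
      simp only [N, gl_mulVec, hEx, eichlerGL_mulVec, polar_add_right, polar_sub_right,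
        polar_smul_right, polar_smul_left, QuadraticMap.map_smul, polar_comm (⇑Q) tw w', htw',
        polar_comm (⇑Q) tw u, htw, huu, huw, huw', hww, Orth.polar_self_eq tw, smul_eq_mul]
      module
    have du : dual Q ((2 : F) • u) ⬝ᵥ u = 0 := by rw [dual_dot, polar_smul_left, huu, smul_zero]
    have key : N 1 * N (-1) = Tr u (dual Q ((2 : F) • u)) du * (N 0 * N 0) := by
      refine gl_ext fun x => ?_
      simp only [gl_mulVec, hNx, Tr_mulVec, dual_dot, polar_add_right, polar_sub_right,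
        polar_smul_right, polar_smul_left, huu, huw, huw', hww, smul_eq_mul]
      module
    refine line h2 ⟨by rw [polar_smul_left, huu, smul_zero], fun hd => ?_⟩
    have h := H.mul_mem (H.mul_mem (hNH 1) (hNH (-1))) (H.inv_mem (H.mul_mem (hNH 0) (hNH 0)))
    rw [key, mul_inv_cancel_right] at h
    exact h
  -- `g` fixes the hyperplane orthogonal to `u`
  push Not at hne
  obtain ⟨lam, rfl⟩ := hne
  have hlam : ∀ x, polar ⇑Q u (gi *ᵥ x) = lam * polar ⇑Q u x := fun x => by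
    rw [← hw', polar_smul_left, smul_eq_mul]
  let D : (ι → F) → (ι → F) → F := fun x y =>
    polar ⇑Q (gi *ᵥ x) (gi *ᵥ y) - lam * polar ⇑Q x y
  have hDs : ∀ x y, D x y = D y x := fun x y => by
    simp only [D, polar_comm (⇑Q) x, polar_comm (⇑Q) (gi *ᵥ x)]
  have hDadd : ∀ x y z, D x (y + z) = D x y + D x z := fun x y z => by
    simp only [D, mulVec_add, polar_add_right]; ring
  have hDsmul : ∀ (c : F) x y, D x (c • y) = c * D x y := fun c x y => by
    simp only [D, mulVec_smul, polar_smul_right, smul_eq_mul]; ring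
  by_cases h0 : ∀ y z, polar ⇑Q u y = 0 → polar ⇑Q u z = 0 → D y z = 0
  swap
  · push Not at h0
    obtain ⟨y, z, hy, hz, hne⟩ := h0
    have h1 := hcom y z hy (by rw [polar_smul_left, hy, smul_zero]) hz
      (by rw [polar_smul_left, hz, smul_zero])
    rw [smul_smul, ← sub_smul] at h1
    refine line ?_ h1
    intro e
    refine hne ?_
    simp only [D, polar_comm (⇑Q) (gi *ᵥ y)]
    linear_combination e
  obtain ⟨q, huq⟩ := exists_dual_one hQ hu0
  have hlam0 : lam ≠ 0 := by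
    intro e
    have h := hlam ((g : Matrix ι ι F) *ᵥ q)
    rw [hgi, inv_mulVec, huq, e, zero_mul] at h
    exact one_ne_zero h
  have hDw : ∀ b, polar ⇑Q u b = 0 → ∀ x, D b x = polar ⇑Q u x * D q b := by
    intro b hb x
    have e : x = (x - polar ⇑Q u x • q) + polar ⇑Q u x • q := (sub_add_cancel _ _).symm
    conv_lhs => rw [e]
    rw [hDadd, hDsmul, h0 b _ hb (by rw [polar_sub_right, polar_smul_right, huq, smul_eq_mul,
      mul_one, sub_self]), hDs b q, zero_add]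
  by_cases hl : ∀ b, polar ⇑Q u b = 0 → D q b = 0
  swap
  · push Not at hl
    obtain ⟨b, hb, hne⟩ := hl
    have hua : polar ⇑Q u (gi *ᵥ b) = 0 := by rw [hlam, hb, mul_zero]
    have hla : polar ⇑Q u (lam • b) = 0 := by rw [polar_smul_right, hb, smul_zero]
    have hQb : Q (gi *ᵥ b) = lam * Q b := by
      have h := h0 b b hb hb
      simp only [D, Orth.polar_self_eq] at h
      exact mul_left_cancel₀ h2 (by linear_combination h)
    obtain ⟨E, hE⟩ : ∃ E, E = g * eichlerGL Q u (gi *ᵥ b) hu hua * g⁻¹ := ⟨_, rfl⟩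
    have hEH : E ∈ H :=
      hE ▸ H.mul_mem (H.mul_mem hgH (hM (eichlerGL_mem hu hua))) (H.inv_mem hgH)
    have hEx : ∀ x, (E : Matrix ι ι F) *ᵥ x = x + (lam * polar ⇑Q u x) • b -
        (polar ⇑Q (gi *ᵥ b) (gi *ᵥ x) + lam * Q b * (lam * polar ⇑Q u x)) • u := by
      intro x
      rw [hE, gl_mulVec, gl_mulVec, ← hgi, eichlerGL_mulVec, hQb, hlam,
        mulVec_sub, mulVec_add, mulVec_smul, mulVec_smul, hgi, mulVec_inv, mulVec_inv, hgu]
    have du : dual Q ((-D q b) • u) ⬝ᵥ u = 0 := by rw [dual_dot, polar_smul_left, huu, smul_zero]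
    have key : E = Tr u (dual Q ((-D q b) • u)) du * eichlerGL Q u (lam • b) hu hla := by
      refine gl_ext fun x => ?_
      have h := hDw b hb x
      simp only [D] at h
      rw [gl_mulVec, hEx, Tr_mulVec, dual_dot, eichlerGL_mulVec, sub_eq_iff_eq_add.mp h]
      simp only [polar_add_right, polar_sub_right, polar_smul_right, polar_smul_left,
        QuadraticMap.map_smul, huu, hb, smul_eq_mul, D]
      module
    refine line (neg_ne_zero.mpr hne) ⟨by rw [polar_smul_left, huu, smul_zero], fun hd => ?_⟩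
    have h := H.mul_mem hEH (H.inv_mem (hM (eichlerGL_mem hu hla)))
    rw [key, mul_inv_cancel_right] at h
    exact h
  -- `g` is a similitude times a transvection
  set c := D q q / 2 with hc
  have hP : ∀ x, Q (gi *ᵥ x) = lam * Q x + c * (polar ⇑Q u x * polar ⇑Q u x) := by
    intro x
    have hd : polar ⇑Q u (x - polar ⇑Q u x • q) = 0 := by
      rw [polar_sub_right, polar_smul_right, huq, smul_eq_mul, mul_one, sub_self]
    have h : D x x = polar ⇑Q u x * (polar ⇑Q u x * D q q) := by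
      have e : x = (x - polar ⇑Q u x • q) + polar ⇑Q u x • q := (sub_add_cancel _ _).symm
      conv_lhs => arg 2; rw [e]
      rw [hDadd, hDsmul, hDs x (x - polar ⇑Q u x • q), hDw _ hd, hl _ hd, mul_zero, zero_add]
      congr 1
      rw [hDs]
      conv_lhs => arg 2; rw [e]
      rw [hDadd, hDsmul, hl _ hd, zero_add]
    simp only [D, Orth.polar_self_eq] at h
    refine mul_left_cancel₀ h2 ?_
    rw [show c = Q (gi *ᵥ q) - lam * Q q by
      rw [hc]; simp only [D, Orth.polar_self_eq]; field_simp]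
    linear_combination h
  by_cases hc0 : c = 0
  · refine absurd ⟨(Units.mk0 lam hlam0)⁻¹, fun x => ?_⟩ hg
    have h := hP ((g : Matrix ι ι F) *ᵥ x)
    rw [hgi, inv_mulVec, hc0, zero_mul, add_zero] at h
    rw [h, ← mul_assoc, Units.val_inv_eq_inv_val, Units.val_mk0, inv_mul_cancel₀ hlam0, one_mul]
  refine line (div_ne_zero hc0 hlam0) ⟨by rw [polar_smul_left, huu, smul_zero], fun hd => ?_⟩
  set T := Tr u (dual Q ((c / lam) • u)) hd with hT
  have hTs : T ∈ Cfsg.Geo.specialLinear ι F := Tr_mem_SL _ _ _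
  have hTQ : ∀ x, Q (gi *ᵥ x) = lam * Q ((T : Matrix ι ι F) *ᵥ x) := by
    intro x
    rw [hT, Tr_mulVec, dual_dot, polar_smul_left, QuadraticMap.map_add (⇑Q), QuadraticMap.map_smul,
      polar_smul_right, hu, polar_comm _ x u, hP]
    simp only [smul_eq_mul]
    field_simp
    ring
  have hm : g⁻¹ * T⁻¹ ∈ Cfsg.Geo.quadSimilarityGroup ⇑Q ⊓ Cfsg.Geo.specialLinear ι F := by
    refine ⟨⟨Units.mk0 lam hlam0, fun x => ?_⟩, (Cfsg.Geo.specialLinear ι F).mul_mem
      ((Cfsg.Geo.specialLinear ι F).inv_mem (hHS hgH)) ((Cfsg.Geo.specialLinear ι F).inv_mem hTs)⟩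
    rw [gl_mulVec, ← hgi, hTQ, mulVec_inv, Units.val_mk0]
  have h := H.mul_mem (H.inv_mem (hM hm)) (H.inv_mem hgH)
  rwa [show (g⁻¹ * T⁻¹)⁻¹ * g⁻¹ = T by group] at h

omit hM in
/-- The similitudes in `SL` are maximal. -/
theorem isMaximalIn_quadSimilarity4 :
    Cfsg.Geo.IsMaximalIn (Cfsg.Geo.specialLinear ι F)
      (Cfsg.Geo.quadSimilarityGroup ⇑Q ⊓ Cfsg.Geo.specialLinear ι F) := by
  obtain ⟨e, he0, he⟩ := Orth.exists_singular h2 hQ (by omega)
  obtain ⟨f, hfQ, hf⟩ := Orth.exists_partner hQ he0 he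
  refine ⟨lt_of_le_of_ne inf_le_right fun heq => ?_, fun H hMH hHS => ?_⟩
  · have hd : dual Q e ⬝ᵥ e = 0 := by rw [dual_dot]; exact Orth.polar_self_zero he
    obtain ⟨c, hc⟩ := (heq.ge (Tr_mem_SL e _ hd)).1
    have h1 := hc f
    rw [Tr_mulVec, dual_dot, hf, one_smul, QuadraticMap.map_add (⇑Q), he, hfQ, polar_comm, hf] at h1
    simp at h1
  by_cases hle : H ≤ Cfsg.Geo.quadSimilarityGroup ⇑Q
  · exact Or.inl (le_antisymm (le_inf hle hHS) hMH)
  right
  obtain ⟨g, hgH, hg⟩ := SetLike.not_le_iff_exists.mp hle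
  obtain ⟨g', u, hg'H, hg', hu0, hu, hg'u⟩ := exists_fixing hQ h2 hn hMH hgH hg
  obtain ⟨v₀, w₀, hv₀, hv₀Q, hR, hind⟩ := generic_of_fixing hQ h2 hn hMH hg'H hg' hHS hu0 hu hg'u
  have hfull : ∀ x, x ≠ 0 → Q x = 0 → Full Q H x := by
    intro x hx0 hx
    obtain ⟨m, hmM, hm, hmx⟩ := exists_isometry_map hQ h2 hn hv₀ hv₀Q hx0 hx
    have hF := full_of_generic4 hQ h2 hn hMH hv₀ hv₀Q hR hind
    intro w hw
    rw [← hmx] at hw ⊢
    have h0 : polar ⇑Q (((m⁻¹ : GL ι F) : Matrix ι ι F) *ᵥ w) v₀ = 0 := by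
      rwa [← polar_of_isometry hm, mulVec_inv]
    have h3 := root_conj (hMH hmM) hm (hF _ h0)
    rwa [mulVec_inv] at h3
  refine eq_SL H hHS fun v a ha => ?_
  rcases eq_or_ne v 0 with rfl | hv
  · have : Tr (0 : ι → F) a ha = 1 := gl_ext fun x => by simp [Tr_mulVec]
    rw [this]; exact H.one_mem
  by_cases hvQ : Q v = 0
  · obtain ⟨w, rfl⟩ := (dual_bijective hQ).2 a
    exact root_mem (hfull v hv hvQ w (by rw [← dual_dot]; exact ha)) ha
  obtain ⟨z, hzQ, hez, hvz⟩ := exists_common_partner4 hQ h2 hn he0 he hv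
  set c := Q v / polar ⇑Q v z with hc
  have hc0 : c ≠ 0 := div_ne_zero hvQ hvz
  have hz0 : z ≠ 0 := fun h => hvz (by rw [h]; exact polar_zero_right _ _)
  set u₂ := v + (-c) • z with hu₂
  have hu₂Q : Q u₂ = 0 := by
    rw [hu₂, QuadraticMap.map_add (⇑Q), QuadraticMap.map_smul, polar_smul_right, hzQ, hc,
      smul_eq_mul, smul_eq_mul]
    field_simp
    ring
  have hu₁Q : Q (c • z) = 0 := by rw [QuadraticMap.map_smul, hzQ, smul_zero]
  have hsum : c • z + u₂ = v := by rw [hu₂, neg_smul]; abel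
  have hu₂0 : u₂ ≠ 0 := fun h => hvQ (by rw [← hsum, h, add_zero, hu₁Q])
  have hsep : ∀ d : F, c • z ≠ d • u₂ := by
    intro d e'
    refine hvQ ?_
    rw [← hsum, e', show d • u₂ + u₂ = (d + 1) • u₂ by module, QuadraticMap.map_smul, hu₂Q, smul_zero]
  obtain ⟨a₂, ha₂, ha₂'⟩ := exists_sep hQ hu₂0 hsep
  have hd₂ : dual Q a₂ ⬝ᵥ u₂ = 0 := by rw [dual_dot, polar_comm]; exact ha₂
  set k := Tr u₂ (dual Q a₂) hd₂ with hk
  have hkH : k ∈ H := root_mem (hfull u₂ hu₂0 hu₂Q a₂ (by rw [polar_comm]; exact ha₂)) hd₂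
  have hku : (k : Matrix ι ι F) *ᵥ (c • z) = v := by
    rw [hk, Tr_mulVec, dual_dot, polar_comm, ha₂', one_smul, hsum]
  obtain ⟨w₁, hw₁⟩ := (dual_bijective hQ).2 (a ᵥ* (k : Matrix ι ι F))
  have hw₁u : dual Q w₁ ⬝ᵥ (c • z) = 0 := by rw [hw₁, ← dotProduct_mulVec, hku, ha]
  have h1 := H.mul_mem (H.mul_mem hkH (root_mem
    (hfull _ (smul_ne_zero hc0 hz0) hu₁Q w₁ (by rw [← dual_dot]; exact hw₁u)) hw₁u))
    (H.inv_mem hkH)
  rw [conj_Tr] at h1
  convert h1 using 1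
  refine gl_ext fun x => ?_
  rw [Tr_mulVec, Tr_mulVec, hku, hw₁, ← dotProduct_mulVec, ← dotProduct_mulVec, mulVec_inv]

end Cfsg.Agent.Lib.GeoTypesSL4.Quad
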