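import Mathlib
import Cfsg.Agent.Lib.FormMax.OrthInSL

/-!
# Similitudes of a quadratic form in dimension at least four: isometries and common partners
-/

set_option autoImplicit false
set_option linter.unusedSectionVars false

namespace Cfsg.Agent.Lib.GeoTypesSL4.Quad

open Matrix QuadraticMap
open Cfsg.Agent.Lib
open Cfsg.Agent.Lib.FormMax
open Cfsg.Agent.Lib.FormMax.OrthSL

variable {ι : Type} [Fintype ι] [DecidableEq ι] {F : Type*} [Field F]
  {Q : QuadraticForm F (ι → F)}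

/-- A non-zero vector orthogonal to fewer vectors than the dimension. -/
theorem exists_perp_ne {k : ℕ} (c : Fin k → ι → F) (hk : k < Fintype.card ι) :
    ∃ x, x ≠ 0 ∧ ∀ i, polar ⇑Q (c i) x = 0 := by
  have h1 := (conds Q c).finrank_range_add_finrank_ker
  rw [Module.finrank_fintype_fun_eq_card] at h1
  have h3 : Module.finrank F (conds Q c).range ≤ k := by
    simpa using Submodule.finrank_le (conds Q c).range
  obtain ⟨x, hx, hx0⟩ := (conds Q c).ker.exists_mem_ne_zero_of_ne_bot fun e => by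
    rw [e, finrank_bot] at h1; omega
  exact ⟨x, hx0, conds_eq (LinearMap.mem_ker.mp hx)⟩

/-- The projection to the orthogonal of a hyperbolic pair. -/
def proj (Q : QuadraticForm F (ι → F)) (e f t : ι → F) : ι → F :=
  t - polar ⇑Q f t • e - polar ⇑Q e t • f

theorem proj_left {e f : ι → F} (he : Q e = 0) (hef : polar ⇑Q e f = 1) (t : ι → F) :
    polar ⇑Q e (proj Q e f t) = 0 := by
  simp [proj, polar_sub_right, polar_smul_right, Orth.polar_self_zero he, hef]

theorem proj_right {e f : ι → F} (hf : Q f = 0) (hef : polar ⇑Q e f = 1) (t : ι → F) :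
    polar ⇑Q f (proj Q e f t) = 0 := by
  simp [proj, polar_sub_right, polar_smul_right, Orth.polar_self_zero hf, polar_comm (⇑Q) f e, hef]

variable (hQ : (QuadraticMap.polarBilin Q).Nondegenerate)
include hQ

theorem exists_pair_perp (hn : 4 ≤ Fintype.card ι) {e f : ι → F} (he : Q e = 0) (hf : Q f = 0)
    (hef : polar ⇑Q e f = 1) :
    ∃ y z, polar ⇑Q e y = 0 ∧ polar ⇑Q f y = 0 ∧ polar ⇑Q e z = 0 ∧ polar ⇑Q f z = 0 ∧
      polar ⇑Q y z = 1 := by
  obtain ⟨y, hy0, hy⟩ := exists_perp_ne (Q := Q) ![e, f] (by omega)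
  have hey : polar ⇑Q e y = 0 := hy 0
  have hfy : polar ⇑Q f y = 0 := hy 1
  obtain ⟨t, ht⟩ := exists_dual_one hQ hy0
  refine ⟨y, proj Q e f t, hey, hfy, proj_left he hef t, proj_right hf hef t, ?_⟩
  rw [proj, polar_sub_right, polar_sub_right, polar_smul_right, polar_smul_right, polar_comm _ y e,
    hey, polar_comm _ y f, hfy, smul_zero, smul_zero, sub_zero, sub_zero, ht]

variable (h2 : (2 : F) ≠ 0)
include h2

/-- A singular partner of `u` which is not orthogonal to `w`. -/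
theorem exists_common_partner4 [Finite F] (hn : 4 ≤ Fintype.card ι) {u w : ι → F}
    (hu0 : u ≠ 0) (hu : Q u = 0) (hw : w ≠ 0) :
    ∃ v, Q v = 0 ∧ polar ⇑Q u v = 1 ∧ polar ⇑Q w v ≠ 0 := by
  obtain ⟨z, hzQ, hz⟩ := Orth.exists_partner hQ hu0 hu
  by_contra hcon
  push Not at hcon
  have hwz := hcon z hzQ hz
  have hfam : ∀ y, polar ⇑Q u y = 0 → polar ⇑Q z y = 0 →
      polar ⇑Q w y = Q y * polar ⇑Q w u := by
    intro y hy hy'
    have h := hcon (z + y + (-Q y) • u) ?_ ?_
    · rw [polar_add_right, polar_add_right, polar_smul_right, hwz, smul_eq_mul] at h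
      linear_combination h
    · rw [QuadraticMap.map_add (⇑Q), QuadraticMap.map_add (⇑Q), QuadraticMap.map_smul,
        polar_smul_right, polar_add_left, hzQ, hu, hy', polar_comm _ z u, hz, polar_comm _ y u, hy]
      simp
    · simp [polar_add_right, polar_smul_right, Orth.polar_self_zero hu, hz, hy]
  obtain ⟨y, y', hy1, hy2, hy1', hy2', hyy⟩ := exists_pair_perp hQ hn hu hzQ hz
  have hwu : polar ⇑Q w u = 0 := by
    have h1 := hfam (y + y') (by rw [polar_add_right, hy1, hy1', add_zero])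
      (by rw [polar_add_right, hy2, hy2', add_zero])
    rw [polar_add_right, hfam y hy1 hy2, hfam y' hy1' hy2', QuadraticMap.map_add (⇑Q), hyy] at h1
    linear_combination -h1
  refine hw (eq_zero_of_forall hQ fun t => ?_)
  set r := t - polar ⇑Q z t • u - polar ⇑Q u t • z with hr
  have hr1 : polar ⇑Q u r = 0 := by
    simp [hr, polar_sub_right, polar_smul_right, Orth.polar_self_zero hu, hz]
  have hr2 : polar ⇑Q z r = 0 := by
    simp [hr, polar_sub_right, polar_smul_right, Orth.polar_self_zero hzQ, polar_comm (⇑Q) z u, hz]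
  have e : t = r + polar ⇑Q z t • u + polar ⇑Q u t • z := by rw [hr]; abel
  rw [e, polar_add_right, polar_add_right, polar_smul_right, polar_smul_right, hfam r hr1 hr2,
    hwu, hwz]
  simp

omit hQ h2 in
/-- An isometry given by a matrix of determinant one. -/
theorem exists_iso_of_det (A : Matrix ι ι F) (hA : A.det = 1) (hiso : ∀ x, Q (A *ᵥ x) = Q x) :
    ∃ g ∈ Cfsg.Geo.quadSimilarityGroup ⇑Q ⊓ Cfsg.Geo.specialLinear ι F,
      (∀ y, Q ((g : Matrix ι ι F) *ᵥ y) = Q y) ∧ ∀ y, (g : Matrix ι ι F) *ᵥ y = A *ᵥ y := by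
  refine ⟨Matrix.GeneralLinearGroup.mkOfDetNeZero A (by rw [hA]; exact one_ne_zero),
    ⟨⟨1, fun x => ?_⟩, ?_⟩, fun y => hiso y, fun y => rfl⟩
  · rw [Units.val_one, one_mul]; exact hiso x
  · show Matrix.GeneralLinearGroup.det _ = 1
    exact Units.ext hA

omit hQ h2 in
/-- The hyperbolic torus of a pair. -/
theorem exists_torus [Finite F] {e f : ι → F} (he : Q e = 0) (hf : Q f = 0)
    (hef : polar ⇑Q e f = 1) {s : F} (hs : s ≠ 0) :
    ∃ g ∈ Cfsg.Geo.quadSimilarityGroup ⇑Q ⊓ Cfsg.Geo.specialLinear ι F,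
      (∀ y, Q ((g : Matrix ι ι F) *ᵥ y) = Q y) ∧ (g : Matrix ι ι F) *ᵥ e = s • e ∧
      ∀ y, polar ⇑Q e y = 0 → polar ⇑Q f y = 0 → (g : Matrix ι ι F) *ᵥ y = y := by
  set A : Matrix ι ι F := (1 + vecMulVec ((s - 1) • e) (polarVec ⇑Q f)) *
    (1 + vecMulVec ((s⁻¹ - 1) • f) (polarVec ⇑Q e)) with hA
  have hAx : ∀ x, A *ᵥ x =
      x + ((s⁻¹ - 1) * polar ⇑Q e x) • f + ((s - 1) * polar ⇑Q f x) • e := by
    intro x
    rw [hA, ← mulVec_mulVec, add_mulVec, one_mulVec, vecMulVec_mulVec, add_mulVec, one_mulVec,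
      vecMulVec_mulVec, Orth.polarVec_dotProduct, Orth.polarVec_dotProduct, op_smul_eq_smul,
      op_smul_eq_smul, polar_add_right, polar_smul_right, polar_smul_right,
      Orth.polar_self_zero hf, smul_smul, smul_smul]
    simp only [smul_eq_mul]
    module
  have hdet : A.det = 1 := by
    rw [hA, det_mul, vecMulVec_eq Unit, det_one_add_replicateCol_mul_replicateRow,
      vecMulVec_eq Unit, det_one_add_replicateCol_mul_replicateRow, Orth.polarVec_dotProduct,
      Orth.polarVec_dotProduct, polar_smul_right, polar_smul_right, polar_comm _ f e, hef]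
    simp only [smul_eq_mul]
    field_simp
    ring
  have hiso : ∀ x, Q (A *ᵥ x) = Q x := by
    intro x
    rw [hAx, QuadraticMap.map_add (⇑Q), QuadraticMap.map_add (⇑Q), QuadraticMap.map_smul,
      QuadraticMap.map_smul, polar_smul_right, polar_add_left, polar_smul_left, polar_smul_right,
      polar_smul_right, he, hf, polar_comm _ x f, polar_comm _ x e, polar_comm _ f e, hef]
    simp only [smul_eq_mul]
    field_simp
    ring
  obtain ⟨g, hgM, hg, hgA⟩ := exists_iso_of_det (Q := Q) A hdet hiso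
  refine ⟨g, hgM, hg, ?_, fun y h1 h3 => ?_⟩
  · rw [hgA, hAx, Orth.polar_self_zero he, polar_comm _ f e, hef]
    module
  · rw [hgA, hAx, h1, h3]; simp

omit hQ in
/-- A product of two reflections. -/
theorem exists_reflPair [Finite F] {a b : ι → F} (ha : Q a ≠ 0) (hb : Q b ≠ 0) :
    ∃ g ∈ Cfsg.Geo.quadSimilarityGroup ⇑Q ⊓ Cfsg.Geo.specialLinear ι F,
      (∀ y, Q ((g : Matrix ι ι F) *ᵥ y) = Q y) ∧ ∀ y, (g : Matrix ι ι F) *ᵥ y =
        y - (polar ⇑Q b y / Q b) • b - (polar ⇑Q a (y - (polar ⇑Q b y / Q b) • b) / Q a) • a := by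
  let R : (ι → F) → Matrix ι ι F := fun c => 1 + vecMulVec ((-(Q c)⁻¹) • c) (polarVec ⇑Q c)
  have hRx : ∀ c x, R c *ᵥ x = x - (polar ⇑Q c x / Q c) • c := by
    intro c x
    simp only [R]
    rw [add_mulVec, one_mulVec, vecMulVec_mulVec, Orth.polarVec_dotProduct, op_smul_eq_smul,
      smul_smul, div_eq_mul_inv]
    module
  have hRQ : ∀ c, Q c ≠ 0 → ∀ x, Q (R c *ᵥ x) = Q x := by
    intro c hc x
    rw [hRx, sub_eq_add_neg, ← neg_smul, QuadraticMap.map_add (⇑Q), QuadraticMap.map_smul,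
      polar_smul_right, polar_comm _ x c]
    simp only [smul_eq_mul]
    field_simp
    ring
  have hRd : ∀ c, Q c ≠ 0 → (R c).det = -1 := by
    intro c hc
    simp only [R]
    rw [vecMulVec_eq Unit, det_one_add_replicateCol_mul_replicateRow, Orth.polarVec_dotProduct,
      polar_smul_right, Orth.polar_self_eq, smul_eq_mul]
    field_simp
    ring
  obtain ⟨g, hgM, hg, hgA⟩ := exists_iso_of_det (Q := Q) (R a * R b)
    (by rw [det_mul, hRd a ha, hRd b hb]; ring)
    fun x => by rw [← mulVec_mulVec, hRQ a ha, hRQ b hb]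
  exact ⟨g, hgM, hg, fun y => by rw [hgA, ← mulVec_mulVec, hRx, hRx]⟩

/-- The isometries in `SL` are transitive on singular vectors. -/
theorem exists_isometry_map [Finite F] (hn : 4 ≤ Fintype.card ι) {u x : ι → F} (hu0 : u ≠ 0)
    (hu : Q u = 0) (hx0 : x ≠ 0) (hx : Q x = 0) :
    ∃ g ∈ Cfsg.Geo.quadSimilarityGroup ⇑Q ⊓ Cfsg.Geo.specialLinear ι F,
      (∀ y, Q ((g : Matrix ι ι F) *ᵥ y) = Q y) ∧ (g : Matrix ι ι F) *ᵥ u = x := by
  obtain ⟨v, hv, huv, hxv⟩ := exists_common_partner4 hQ h2 hn hu0 hu hx0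
  set c := polar ⇑Q x v with hc
  have hx'v : polar ⇑Q (c⁻¹ • x) v = 1 := by
    rw [polar_smul_left, smul_eq_mul, ← hc, inv_mul_cancel₀ hxv]
  have hx'Q : Q (c⁻¹ • x) = 0 := by rw [QuadraticMap.map_smul, hx, smul_zero]
  obtain ⟨g, hgM, hg, hgu⟩ := exists_move hQ hu hx'Q hv one_ne_zero
    (by rw [polar_comm]; exact huv) (by rw [polar_comm]; exact hx'v)
  obtain ⟨k, hkM, hk, hku, -⟩ := exists_torus hx'Q hv hx'v hxv
  refine ⟨k * g, mul_mem hkM hgM, fun y => by rw [gl_mulVec, hk, hg], ?_⟩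
  rw [gl_mulVec, hgu, hku, smul_smul, mul_inv_cancel₀ hxv, one_smul]

end Cfsg.Agent.Lib.GeoTypesSL4.Quad
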