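import Cfsg.Agent.Lib.GeoTypesSL4.QuadIso

/-!
# Similitudes of a quadratic form in dimension at least four: transvections
-/

set_option autoImplicit false
set_option linter.unusedSectionVars false

namespace Cfsg.Agent.Lib.GeoTypesSL4.Quad

open Matrix QuadraticMap
open Cfsg.Agent.Lib
open Cfsg.Agent.Lib.FormMax
open Cfsg.Agent.Lib.FormMax.OrthSL

variable {ι : Type} [Fintype ι] [DecidableEq ι] {F : Type*} [Field F] [Finite F]
  {Q : QuadraticForm F (ι → F)} {H : Subgroup (GL ι F)}
  (hQ : (QuadraticMap.polarBilin Q).Nondegenerate) (h2 : (2 : F) ≠ 0)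
  (hn : 4 ≤ Fintype.card ι) (hM : Cfsg.Geo.quadSimilarityGroup ⇑Q ⊓ Cfsg.Geo.specialLinear ι F ≤ H)
include hQ h2 hn hM

theorem root_line_scale {u w : ι → F} (hu0 : u ≠ 0) (hu : Q u = 0) (hR : Root Q H u w) {f : ι → F}
    (hf : Q f = 0) (huf : polar ⇑Q u f = 1) (hfw : polar ⇑Q f w = 0) (t : F) : Root Q H u (t • w) := by
  rcases eq_or_ne t 0 with rfl | ht
  · rw [zero_smul]; exact root_zero u
  obtain ⟨g, hgM, hg, hgu, hgw⟩ := exists_torus hu hf huf ht
  have h1 := root_conj (hM hgM) hg hR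
  rw [hgu, hgw w (by rw [polar_comm]; exact hR.1) hfw] at h1
  have h3 := root_scale (inv_ne_zero ht) h1
  rwa [smul_smul, inv_mul_cancel₀ ht, one_smul, inv_inv] at h3

theorem root_self_of_generic {u w : ι → F} (hu0 : u ≠ 0) (hu : Q u = 0) (hR : Root Q H u w)
    (hw : ∀ c : F, w ≠ c • u) (t : F) : Root Q H u (t • u) := by
  obtain ⟨y, hy, hyw⟩ := exists_sep hQ hu0 hw
  have ha : polar ⇑Q u (t • y) = 0 := by rw [polar_smul_right, hy, smul_zero]
  have h1 := root_conj (hM (eichlerGL_mem hu ha)) (fun z => Q_eichlerGL hu ha z) hR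
  rw [eichlerGL_mulVec, eichlerGL_mulVec, Orth.polar_self_zero hu, polar_smul_left, polar_smul_left,
    polar_comm _ y u, hy, polar_comm _ u w, hR.1, polar_comm _ y w, hyw] at h1
  simp only [zero_smul, add_zero, smul_zero, mul_zero, sub_zero, smul_eq_mul, mul_one] at h1
  have h3 := root_sub hR h1
  rwa [sub_sub_cancel] at h3

theorem root_sq {u : ι → F} {κ : F} (hu0 : u ≠ 0) (hu : Q u = 0) (hR : Root Q H u (κ • u)) {s : F}
    (hs : s ≠ 0) : Root Q H u ((s * s * κ) • u) := by
  obtain ⟨f, hfQ, hf⟩ := Orth.exists_partner hQ hu0 hu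
  obtain ⟨g, hgM, hg, hgu, -⟩ := exists_torus hu hfQ hf hs
  have h1 := root_conj (hM hgM) hg hR
  rw [mulVec_smul, hgu] at h1
  have h3 := root_scale (inv_ne_zero hs) h1
  rw [smul_smul, inv_mul_cancel₀ hs, one_smul, inv_inv, smul_smul, smul_smul] at h3
  convert h3 using 2
  ring

theorem root_lines {u : ι → F} {κ : F} (hκ : κ ≠ 0) (hu0 : u ≠ 0) (hu : Q u = 0)
    (hR : Root Q H u (κ • u)) {x : ι → F} (hx0 : x ≠ 0) (hx : Q x = 0) (t : F) :
    Root Q H x (t • x) := by
  have hsq' : ∀ s : F, Root Q H u ((s * s * κ) • u) := fun s => by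
    by_cases hs : s = 0
    · simpa [hs] using root_zero (Q := Q) (H := H) u
    · exact root_sq hQ h2 hn hM hu0 hu hR hs
  have h1 := root_sub (hsq' ((t / κ + 1) / 2)) (hsq' ((t / κ - 1) / 2))
  rw [← sub_smul] at h1
  have h3 : Root Q H u (t • u) := by
    convert h1 using 2
    field_simp
    ring
  obtain ⟨g, hgM, hg, hgu⟩ := exists_isometry_map hQ h2 hn hu0 hu hx0 hx
  have h5 := root_conj (hM hgM) hg h3
  rwa [mulVec_smul, hgu] at h5

theorem generic_of_line {u : ι → F} {κ : F} (hκ : κ ≠ 0) (hu0 : u ≠ 0) (hu : Q u = 0)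
    (hR : Root Q H u (κ • u)) :
    ∃ v w, v ≠ 0 ∧ Q v = 0 ∧ Root Q H v w ∧ ∀ c : F, w ≠ c • v := by
  have hl : ∀ x, x ≠ 0 → Q x = 0 → ∀ t : F, Root Q H x (t • x) := fun x hx0 hx t =>
    root_lines hQ h2 hn hM hκ hu0 hu hR hx0 hx t
  obtain ⟨v, hv, huv⟩ := Orth.exists_partner hQ hu0 hu
  obtain ⟨y, hy0, hy⟩ := exists_perp_ne (Q := Q) ![u, v] (by omega)
  have huy : polar ⇑Q u y = 0 := hy 0
  have hvy : polar ⇑Q v y = 0 := hy 1
  have huu := Orth.polar_self_zero hu
  have hvv := Orth.polar_self_zero hv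
  have hv0 : v ≠ 0 := fun e => by simp [e] at huv
  obtain ⟨w, hw⟩ : ∃ w, w = u + y + (-Q y) • v := ⟨_, rfl⟩
  have hwQ : Q w = 0 := by
    rw [hw, QuadraticMap.map_add (⇑Q), QuadraticMap.map_add (⇑Q), QuadraticMap.map_smul,
      polar_smul_right, polar_add_left, hu, hv, huv, polar_comm _ y v, hvy, huy]
    simp
  have hw0 : w ≠ 0 := fun e => by
    have := congrArg (fun r => polar ⇑Q v r) e
    simp [hw, polar_add_right, polar_smul_right, polar_comm (⇑Q) v u, huv, hvy, hvv] at this
  obtain ⟨α, hα⟩ : ∃ α, α = -Q y := ⟨_, rfl⟩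
  rw [← hα] at hw
  have huw : polar ⇑Q u w = α := by
    simp [hw, polar_add_right, polar_smul_right, huu, huy, huv]
  have hvw : polar ⇑Q v w = 1 := by
    simp [hw, polar_add_right, polar_smul_right, polar_comm (⇑Q) v u, huv, hvy, hvv]
  obtain ⟨b, hb0, hb⟩ : ∃ b : F, b ≠ 0 ∧ α + b ≠ 0 := by
    by_cases h : α = 0
    · exact ⟨1, one_ne_zero, by simp [h]⟩
    · exact ⟨α, h, by rw [← two_mul]; exact mul_ne_zero h2 h⟩
  set a := -b / ((α + b) * (α + b)) with ha
  have hae : b + a * (α + b) * (α + b) = 0 := by rw [ha]; field_simp; ring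
  have du : dual Q (a • u) ⬝ᵥ u = 0 := by rw [dual_dot, polar_smul_left, huu, smul_zero]
  have dv : dual Q (b • v) ⬝ᵥ v = 0 := by rw [dual_dot, polar_smul_left, hvv, smul_zero]
  have dw : dual Q ((1 : F) • w) ⬝ᵥ w = 0 := by
    rw [dual_dot, polar_smul_left, Orth.polar_self_zero hwQ, smul_zero]
  set k := Tr u (dual Q (a • u)) du * Tr v (dual Q (b • v)) dv with hk
  have hkH : k ∈ H := H.mul_mem (root_mem (hl u hu0 hu _) du) (root_mem (hl v hv0 hv _) dv)
  have hkx : ∀ x, (k : Matrix ι ι F) *ᵥ x =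
      x + (b * polar ⇑Q v x) • v + (a * (polar ⇑Q u x + b * polar ⇑Q v x)) • u := by
    intro x
    rw [hk, gl_mulVec, Tr_mulVec, Tr_mulVec, dual_dot, dual_dot, polar_smul_left, polar_smul_left,
      polar_add_right, polar_smul_right, huv]
    simp only [smul_eq_mul, mul_one]
  have hkw : (k : Matrix ι ι F) *ᵥ w = w + b • v + (a * (α + b)) • u := by
    rw [hkx, hvw, huw, mul_one]
  set r := w + (-(a * (α - b))) • u + (-b) • v with hr
  have hQc : Q (w + b • v + (a * (α + b)) • u) = 0 := by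
    rw [QuadraticMap.map_add (⇑Q), QuadraticMap.map_add (⇑Q), QuadraticMap.map_smul,
      QuadraticMap.map_smul, polar_smul_right, polar_smul_right, polar_add_left, polar_smul_left,
      hwQ, hu, hv, polar_comm _ w v, hvw, polar_comm _ w u, huw, polar_comm _ v u, huv]
    simp only [smul_eq_mul]
    linear_combination hae
  refine ⟨w + b • v + (a * (α + b)) • u, r, fun e => ?_, hQc, ⟨?_, fun hd => ?_⟩, fun c e => ?_⟩
  · have := congrArg (fun t => polar ⇑Q u t) e
    simp [polar_add_right, polar_smul_right, huu, huw, huv] at this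
    exact hb this
  · simp only [hr, polar_add_left, polar_add_right, polar_smul_left, polar_smul_right,
      polar_comm (⇑Q) v u, polar_comm (⇑Q) w u, polar_comm (⇑Q) w v, huv, huw, hvw, huu, hvv,
      Orth.polar_self_zero hwQ, smul_eq_mul]
    ring
  · have h1 := H.mul_mem (H.mul_mem hkH (root_mem (hl w hw0 hwQ 1) dw)) (H.inv_mem hkH)
    rw [conj_Tr] at h1
    convert h1 using 1
    refine gl_ext fun x => ?_
    rw [Tr_mulVec, Tr_mulVec, hkw, dual_dot, ← dotProduct_mulVec, dual_dot, one_smul]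
    conv_lhs => rw [← mulVec_inv k x]
    rw [hkx (((k⁻¹ : GL ι F) : Matrix ι ι F) *ᵥ x)]
    congr 2
    · rw [← hkx, mulVec_inv]
    · simp only [hr, polar_add_left, polar_add_right, polar_smul_left, polar_smul_right,
        polar_comm (⇑Q) v u, polar_comm (⇑Q) w u, polar_comm (⇑Q) w v, huv, huw, hvw, huu, hvv,
        smul_eq_mul]
      ring
  · -- compare values against `u`, and against `y`
    have h1 := congrArg (fun t => polar ⇑Q u t) e
    simp only [hr, polar_add_right, polar_smul_right, huu, huw, huv, smul_eq_mul, mul_one,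
      mul_zero, add_zero] at h1
    have h3 := congrArg (fun t => polar ⇑Q v t) e
    simp only [hr, polar_add_right, polar_smul_right, hvv, hvw, polar_comm (⇑Q) v u, huv,
      smul_eq_mul, mul_one, mul_zero, add_zero] at h3
    obtain ⟨t, ht⟩ := exists_dual_one hQ hy0
    have h5 := congrArg (fun z => polar ⇑Q (proj Q u v t) z) e
    have p1 : polar ⇑Q (proj Q u v t) u = 0 := by rw [polar_comm]; exact proj_left hu huv t
    have p2 : polar ⇑Q (proj Q u v t) v = 0 := by rw [polar_comm]; exact proj_right hv huv t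
    have p3 : polar ⇑Q (proj Q u v t) y = 1 := by
      rw [polar_comm, proj, polar_sub_right, polar_sub_right, polar_smul_right, polar_smul_right,
        polar_comm _ y u, huy, polar_comm _ y v, hvy, smul_zero, smul_zero, sub_zero, sub_zero, ht]
    simp only [hr, hw, polar_add_right, polar_smul_right, p1, p2, p3, smul_eq_mul,
      mul_zero, add_zero, zero_add, mul_one] at h5
    subst h5
    refine mul_ne_zero h2 hb0 ?_
    linear_combination -h1

theorem root_conj_sym {u w z : ι → F} (hu0 : u ≠ 0) (hu : Q u = 0) (hw : Root Q H u w)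
    (huz : polar ⇑Q u z = 0) (hz : ∀ t : F, Root Q H z (t • z)) (hzQ : Q z = 0) (t : F) :
    Root Q H u (w + (-(t * polar ⇑Q z w)) • z) := by
  refine ⟨by rw [polar_add_left, polar_smul_left, hw.1, polar_comm _ z u, huz, smul_zero, add_zero],
    fun hd => ?_⟩
  have dz : dual Q (t • z) ⬝ᵥ z = 0 := by
    rw [dual_dot, polar_smul_left, Orth.polar_self_zero hzQ, smul_zero]
  have dm : dual Q ((-t) • z) ⬝ᵥ z = 0 := by
    rw [dual_dot, polar_smul_left, Orth.polar_self_zero hzQ, smul_zero]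
  have du : dual Q w ⬝ᵥ u = 0 := by rw [dual_dot]; exact hw.1
  have h1 := H.mul_mem (H.mul_mem (root_mem (hz t) dz) (root_mem hw du)) (root_mem (hz (-t)) dm)
  convert h1 using 1
  refine gl_ext fun x => ?_
  simp only [gl_mulVec, Tr_mulVec, dual_dot, polar_add_left, polar_add_right, polar_smul_left,
    polar_smul_right, Orth.polar_self_zero hzQ, polar_comm (⇑Q) w z, polar_comm (⇑Q) z u, huz,
    smul_eq_mul]
  module

theorem root_singular {u w z : ι → F} (hu0 : u ≠ 0) (hu : Q u = 0) (hw : Root Q H u w)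
    (huz : polar ⇑Q u z = 0) (hz : ∀ t : F, Root Q H z (t • z)) (hzQ : Q z = 0)
    (hzw : polar ⇑Q z w ≠ 0) : Root Q H u z := by
  have h1 := root_conj_sym hQ h2 hn hM hu0 hu hw huz hz hzQ ((polar ⇑Q z w)⁻¹)
  rw [inv_mul_cancel₀ hzw, neg_one_smul] at h1
  have h3 := root_sub hw h1
  rwa [show w - (w + -z) = z by abel] at h3

theorem full_of_generic4 {u w : ι → F} (hu0 : u ≠ 0) (hu : Q u = 0) (hR : Root Q H u w)
    (hw : ∀ c : F, w ≠ c • u) : Full Q H u := by
  obtain ⟨f, hf, huf⟩ := Orth.exists_partner hQ hu0 hu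
  have hself := root_self_of_generic hQ h2 hn hM hu0 hu hR hw
  have hl : ∀ x, x ≠ 0 → Q x = 0 → ∀ t : F, Root Q H x (t • x) := fun x hx0 hx t =>
    root_lines hQ h2 hn hM one_ne_zero hu0 hu (hself 1) hx0 hx t
  have huu := Orth.polar_self_zero hu
  have huw : polar ⇑Q u w = 0 := by rw [polar_comm]; exact hR.1
  -- the component in the orthogonal of the pair
  set w₀ := w - polar ⇑Q f w • u with hw₀
  have hR0 : Root Q H u w₀ := root_sub hR (hself _)
  have hw00 : w₀ ≠ 0 := fun e => hw _ (sub_eq_zero.mp e)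
  have hu0w : polar ⇑Q u w₀ = 0 := by
    simp [hw₀, polar_sub_right, polar_smul_right, huw, huu]
  have hf0w : polar ⇑Q f w₀ = 0 := by
    simp [hw₀, polar_sub_right, polar_smul_right, polar_comm (⇑Q) f u, huf]
  -- an anisotropic one
  obtain ⟨w₁, hR1, hu1, hf1, hQ1⟩ :
      ∃ w₁, Root Q H u w₁ ∧ polar ⇑Q u w₁ = 0 ∧ polar ⇑Q f w₁ = 0 ∧ Q w₁ ≠ 0 := by
    by_cases h : Q w₀ = 0
    swap
    · exact ⟨w₀, hR0, hu0w, hf0w, h⟩
    obtain ⟨p, hpQ, hp⟩ := Orth.exists_partner hQ hw00 h
    set q := proj Q u f p with hq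
    have hwq : polar ⇑Q w₀ q = 1 := by
      rw [hq, proj, polar_sub_right, polar_sub_right, polar_smul_right, polar_smul_right,
        polar_comm _ w₀ u, hu0w, polar_comm _ w₀ f, hf0w, smul_zero, smul_zero, sub_zero, sub_zero, hp]
    set z := q + (-Q q) • w₀ with hz
    have hzw : polar ⇑Q z w₀ = 1 := by
      rw [hz, polar_add_left, polar_smul_left, Orth.polar_self_zero h, smul_zero, add_zero,
        polar_comm, hwq]
    have hzQ : Q z = 0 := by
      rw [hz, QuadraticMap.map_add (⇑Q), QuadraticMap.map_smul, polar_smul_right, h,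
        polar_comm _ q w₀, hwq]
      simp
    have huz : polar ⇑Q u z = 0 := by
      rw [hz, polar_add_right, polar_smul_right, hu0w, smul_zero, add_zero, hq, proj_left hu huf]
    have hfz : polar ⇑Q f z = 0 := by
      rw [hz, polar_add_right, polar_smul_right, hf0w, smul_zero, add_zero, hq, proj_right hf huf]
    have hz0 : z ≠ 0 := fun e => by rw [e, polar_zero_left] at hzw; exact zero_ne_one hzw
    refine ⟨w₀ + z, root_add hR0 (root_singular hQ h2 hn hM hu0 hu hR0 huz (hl z hz0 hzQ) hzQ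
      (by rw [hzw]; exact one_ne_zero)), by rw [polar_add_right, hu0w, huz, add_zero],
      by rw [polar_add_right, hf0w, hfz, add_zero], ?_⟩
    rw [QuadraticMap.map_add (⇑Q), h, hzQ, polar_comm, hzw]
    simp
  have hline : ∀ y, polar ⇑Q f y = 0 → Root Q H u y → ∀ t : F, Root Q H u (t • y) :=
    fun y hy hRy t => root_line_scale hQ h2 hn hM hu0 hu hRy hf huf hy t
  have hl1 := hline w₁ hf1 hR1
  -- anisotropic vectors not orthogonal to `w₁`
  have hgood : ∀ b, polar ⇑Q u b = 0 → polar ⇑Q f b = 0 → polar ⇑Q b w₁ ≠ 0 → Root Q H u b := by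
    intro b hub hfb hbw
    by_cases hbQ : Q b = 0
    · exact root_singular hQ h2 hn hM hu0 hu hR1 hub
        (hl b (fun e => hbw (by rw [e, polar_zero_left])) hbQ) hbQ hbw
    obtain ⟨g, hgM, hg, hgy⟩ := exists_reflPair h2 hQ1 hbQ
    have h1 := root_conj (hM hgM) hg hR1
    rw [hgy, hgy, polar_comm _ b u, hub, zero_div, zero_smul, sub_zero, polar_comm _ w₁ u, hu1,
      zero_div, zero_smul, sub_zero] at h1
    set c := polar ⇑Q b w₁ / Q b with hc
    set d := polar ⇑Q w₁ (w₁ - c • b) / Q w₁ with hd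
    have hfy : polar ⇑Q f (c • b) = 0 := by rw [polar_smul_right, hfb, smul_zero]
    have h3 : Root Q H u (c • b) := by
      have := root_sub (hl1 (1 - d)) h1
      rwa [show (1 - d) • w₁ - (w₁ - c • b - d • w₁) = c • b by module] at this
    have h5 := hline _ hfy h3 c⁻¹
    rwa [smul_smul, inv_mul_cancel₀ (div_ne_zero hbw hbQ), one_smul] at h5
  have hW : ∀ y, polar ⇑Q u y = 0 → polar ⇑Q f y = 0 → Root Q H u y := by
    intro y huy hfy
    set s := polar ⇑Q y w₁ / (2 * Q w₁) with hs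
    set y' := y - s • w₁ + w₁ with hy'
    have h3 : polar ⇑Q y' w₁ ≠ 0 := by
      have : polar ⇑Q y' w₁ = 2 * Q w₁ := by
        rw [hy', polar_add_left, polar_sub_left, polar_smul_left, Orth.polar_self_eq, hs, smul_eq_mul]
        field_simp
        ring
      rw [this]; exact mul_ne_zero h2 hQ1
    have h5 := root_add (hgood y' (by simp [hy', polar_add_right, polar_sub_right, polar_smul_right,
      huy, hu1]) (by simp [hy', polar_add_right, polar_sub_right, polar_smul_right, hfy, hf1]) h3)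
      (hl1 (s - 1))
    rwa [show y' + (s - 1) • w₁ = y by rw [hy']; module] at h5
  intro t ht
  have hut : polar ⇑Q u t = 0 := by rw [polar_comm]; exact ht
  have h1 := root_add (hW (t - polar ⇑Q f t • u)
    (by simp [polar_sub_right, polar_smul_right, hut, huu])
    (by simp [polar_sub_right, polar_smul_right, polar_comm (⇑Q) f u, huf])) (hself (polar ⇑Q f t))
  rwa [sub_add_cancel] at h1

end Cfsg.Agent.Lib.GeoTypesSL4.Quad
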